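/-
Project SQF: case beta is impossible.
-/
import Cfsg.Agent.SQF.Defs
import Cfsg.Agent.S3224

set_option autoImplicit false

namespace CL.Sqf

open Cfsg Subgroup CL.Even CL.Fgs

universe u

namespace FINx

variable {G : Type*} [Group G]

theorem card4 {C : Subgroup G} {p q : G} (h : Four p q) (e : ∀ x, x ∈ C ↔ x = 1 ∨ x = p ∨ x = q ∨ x = p * q) :
    Nat.card C = 4 := by
  obtain ⟨h1, h2, -, h4, h5, h6⟩ := h
  have k1 : (1 : G) ≠ p * q := fun k => h6 (mul_left_cancel (h1.trans k))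
  have k2 : p ≠ p * q := fun k => h5 (mul_eq_left.1 k.symm)
  have k3 : q ≠ p * q := fun k => h4 (mul_eq_right.1 k.symm)
  have : (C : Set G) = {1, p, q, p * q} := Set.ext e
  rw [← SetLike.coe_sort_coe, Nat.card_coe_set_eq, this, Set.ncard_insert_of_notMem (by simp [h4.symm, h5.symm, k1]),
    Set.ncard_insert_of_notMem (by simp [h6, h5]), Set.ncard_pair k3]

theorem mem0 {R : Subgroup G} {a b x : G} :
    x ∈ R ⊓ cent(a) ⊓ cent(b) ↔ x ∈ R ∧ a * x * a⁻¹ = x ∧ b * x * b⁻¹ = x := by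
  simp only [mem_inf, mem_centralizer_singleton_iff, mul_inv_eq_iff_eq_mul, and_assoc, eq_comm (a := x * _)]

variable {R : Subgroup G} {u t a b c d : G}

theorem dec (h : Be R u t a b c d) {ρ : G} (hρ : ρ ∈ R) : ∃ e, (e = 1 ∨ e = c ∨ e = d ∨ e = c * d) ∧
    ∃ x ∈ R ⊓ cent(a) ⊓ cent(b), ρ = e * x := by
  have ac : a * c * a⁻¹ = c := mul_inv_eq_iff_eq_mul.2 h.ta.ac
  have bd : b * d * b⁻¹ = d := mul_inv_eq_iff_eq_mul.2 h.tb.ac
  have k1 : ∀ x ∈ R, c * x * c = x := fun x hx => by rw [← h.ta.cen x hx, mul_assoc, h.ta.cc, mul_one]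
  have k2 : ∀ x ∈ R, d * x * d = x := fun x hx => by rw [← h.tb.cen x hx, mul_assoc, h.tb.cc, mul_one]
  have m : ∀ g x y : G, g * (x * y) * g⁻¹ = g * x * g⁻¹ * (g * y * g⁻¹) := fun g x y => by group
  have cd : c * d * (c * d) = 1 := by rw [← mul_assoc, k1 d h.tb.cm, h.tb.cc]
  rcases h.ta.act ρ hρ with e1 | e1 <;> rcases h.tb.act ρ hρ with e2 | e2
  · exact ⟨1, .inl rfl, ρ, mem0.2 ⟨hρ, e1, e2⟩, (one_mul _).symm⟩
  · refine ⟨c, .inr (.inl rfl), c * ρ, mem0.2 ⟨mul_mem h.ta.cm hρ, by rw [m, ac, e1], ?_⟩,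
      by rw [← mul_assoc, h.ta.cc, one_mul]⟩
    rw [m, h.bc, e2, mul_assoc, ← mul_assoc d, k2 ρ hρ]
  · refine ⟨d, .inr (.inr (.inl rfl)), d * ρ, mem0.2 ⟨mul_mem h.tb.cm hρ, ?_, by rw [m, bd, e2]⟩,
      by rw [← mul_assoc, h.tb.cc, one_mul]⟩
    rw [m, h.ad, e1, mul_assoc, ← mul_assoc c, k1 ρ hρ]
  · refine ⟨c * d, .inr (.inr (.inr rfl)), c * d * ρ, mem0.2 ⟨mul_mem (mul_mem h.ta.cm h.tb.cm) hρ, ?_, ?_⟩,
      by rw [← mul_assoc, cd, one_mul]⟩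
    · rw [m, m, ac, h.ad, e1, ← mul_assoc c d c, mul_assoc (c * d), ← mul_assoc c ρ c, k1 ρ hρ]
    · rw [m, m, bd, h.bc, e2, mul_assoc (c * d), ← mul_assoc d ρ d, k2 ρ hρ]

theorem pg_zp (hR : IsPGroup 2 R) (h : a * a ∈ R) : IsPGroup 2 (zpowers a) := by
  obtain ⟨k, hk⟩ := two_of_mem hR h
  rintro ⟨_, n, rfl⟩
  refine ⟨k + 1, Subtype.ext ?_⟩
  change (a ^ n) ^ 2 ^ (k + 1) = 1
  rw [← zpow_natCast, ← zpow_mul, mul_comm, zpow_mul, zpow_natCast, pow_succ', pow_mul, pow_two, hk, one_zpow]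

end FINx

open FINx in
theorem fin : FIN.{u} := fun cd lq br3 G _ _ R u t a b c d hP h => by
  have : Fact (Nat.Prime 2) := ⟨Nat.prime_two⟩
  have cd' := cd G R u t a b c d h
  have dec' := @dec G _ R u t a b c d h
  have m0 : ∀ {x}, x ∈ R ⊓ cent(a) ⊓ cent(b) ↔ x ∈ R ∧ a * x * a⁻¹ = x ∧ b * x * b⁻¹ = x := mem0
  generalize R ⊓ cent(a) ⊓ cent(b) = R0 at cd' dec' m0
  have l0 : R0 ≤ R := fun _ hx => (m0.1 hx).1
  have p0 : IsPGroup 2 R0 := h.two.to_le l0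
  have ac : a * c * a⁻¹ = c := mul_inv_eq_iff_eq_mul.2 h.ta.ac
  have bd : b * d * b⁻¹ = d := mul_inv_eq_iff_eq_mul.2 h.tb.ac
  have aC : a ∈ 𝒞(R0) := fun x hx => (mul_inv_eq_iff_eq_mul.1 (m0.1 hx).2.1).symm
  have bC : b ∈ 𝒞(R0) := fun x hx => (mul_inv_eq_iff_eq_mul.1 (m0.1 hx).2.2).symm
  have cC : c ∈ 𝒞(R0) := fun x hx => h.ta.cen x (l0 hx)
  have dC : d ∈ 𝒞(R0) := fun x hx => h.tb.cen x (l0 hx)
  have cn := cent_le_norm R0
  have RN : R ≤ 𝒩(R0) := fun ρ hρ => by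
    obtain ⟨e, he, x, hx, rfl⟩ := dec' hρ
    refine mul_mem ?_ (le_normalizer hx)
    rcases he with rfl | rfl | rfl | rfl
    exacts [one_mem _, cn cC, cn dC, cn (mul_mem cC dC)]
  have c0 : c ∉ R0 := fun k => h.d1 (mul_eq_left.1 (h.bc.symm.trans (m0.1 k).2.2))
  have d0 : d ∉ R0 := fun k => h.c1 (mul_eq_left.1 (h.ad.symm.trans (m0.1 k).2.1))
  have cd0 : c * d ∉ R0 := fun k => h.c1 (by
    have e := (m0.1 k).2.1
    rw [show a * (c * d) * a⁻¹ = a * c * a⁻¹ * (a * d * a⁻¹) by group, ac, h.ad] at e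
    exact mul_eq_left.1 (mul_left_cancel e))
  have ccd : c * d = d * c := (h.ta.cen d h.tb.cm).symm
  let π := QuotientGroup.mk' (R0.subgroupOf 𝒩(R0))
  have π1 : ∀ {g : 𝒩(R0)}, π g = 1 ↔ g.1 ∈ R0 := fun {g} => QuotientGroup.eq_one_iff g
  have πs : Function.Surjective π := QuotientGroup.mk'_surjective _
  let a' : 𝒩(R0) := ⟨a, cn aC⟩
  let b' : 𝒩(R0) := ⟨b, cn bC⟩
  let c' : 𝒩(R0) := ⟨c, cn cC⟩
  let d' : 𝒩(R0) := ⟨d, cn dC⟩
  have pD : IsPGroup 2 (zpowers a ⊔ R : Subgroup G) :=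
    (pg_zp h.two h.ta.sq).to_sup_of_normal_right' h.two (zpowers_le.2 h.ta.nr)
  obtain ⟨S, hS⟩ := ((pD.comap_subtype (K := 𝒩(R0))).map π).exists_le_sylow
  have mS : ∀ g : 𝒩(R0), g.1 ∈ zpowers a ⊔ R → π g ∈ (S : Subgroup _) := fun g hg => hS ⟨g, hg, rfl⟩
  have pP : IsPGroup 2 (((S : Subgroup _).comap π).map (𝒩(R0)).subtype) :=
    (S.isPGroup'.comap_of_ker_isPGroup π (by rw [QuotientGroup.ker_mk']; exact p0.comap_subtype)).map _
  have cP := cd' _ pP (fun ρ hρ => ⟨⟨ρ, RN hρ⟩, mS _ (mem_sup_right hρ), rfl⟩)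
    ⟨a', mS _ (mem_sup_left (mem_zpowers a)), rfl⟩ (map_subtype_le _)
  have cc0 : c * c ∈ R0 := h.ta.cc ▸ one_mem _
  have dd0 : d * d ∈ R0 := h.tb.cc ▸ one_mem _
  have F : Four (π c') (π d') := by
    refine ⟨by rw [← map_mul, π1]; exact cc0, by rw [← map_mul, π1]; exact dd0,
      by rw [← map_mul, ← map_mul]; exact congrArg π (Subtype.ext ccd), fun k => c0 (π1.1 k), fun k => d0 (π1.1 k),
      fun k => cd0 (π1 (g := c' * d').1 ?_)⟩
    rw [map_mul, k, ← map_mul, π1]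
    exact dd0
  let sc : (S : Subgroup _) := ⟨π c', mS _ (mem_sup_right h.ta.cm)⟩
  let sd : (S : Subgroup _) := ⟨π d', mS _ (mem_sup_right h.tb.cm)⟩
  have F' : Four sc sd := ⟨Subtype.ext F.1, Subtype.ext F.2.1, Subtype.ext F.2.2.1,
    fun k => F.2.2.2.1 (congrArg Subtype.val k), fun k => F.2.2.2.2.1 (congrArg Subtype.val k),
    fun k => F.2.2.2.2.2 (congrArg Subtype.val k)⟩
  have cR : ∀ (g : 𝒩(R0)) (hg : π g ∈ (S : Subgroup _)), (⟨π g, hg⟩ : (S : Subgroup _)) ∈ cent(sd) → g.1 ∈ R :=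
    fun g hg k => cP g ⟨g, hg, rfl⟩ (π1 (g := g * d' * g⁻¹ * d'⁻¹).1 (by
      have e : π g * π d' = π d' * π g := congrArg Subtype.val (mem_centralizer_singleton_iff.1 k)
      rw [map_mul, map_mul, map_mul, e, map_inv, map_inv]; group))
  have c4 : Nat.card cent(sd) = 4 := card4 F' fun x => ⟨fun k => by
      obtain ⟨x, hx⟩ := x
      obtain ⟨g, rfl⟩ := πs x
      obtain ⟨e, he, y, hy, k'⟩ := dec' (cR g hx k)
      have k2 : ∀ e' : 𝒩(R0), e = e' → π g = π e' := fun e' j => by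
        rw [show g = e' * ⟨y, le_normalizer hy⟩ from Subtype.ext (k'.trans (congrArg (· * y) j)), map_mul,
          π1 (g := ⟨y, le_normalizer hy⟩).2 hy, mul_one]
      rcases he with j | j | j | j
      · exact .inl (Subtype.ext ((k2 1 j).trans (map_one π)))
      · exact .inr (.inl (Subtype.ext (k2 c' j)))
      · exact .inr (.inr (.inl (Subtype.ext (k2 d' j))))
      · exact .inr (.inr (.inr (Subtype.ext ((k2 (c' * d') j).trans (map_mul π _ _))))), fun k => by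
      have j1 : sc ∈ cent(sd) := mem_centralizer_singleton_iff.2 F'.2.2.1
      have j2 : sd ∈ cent(sd) := mem_centralizer_singleton_iff.2 rfl
      rcases k with rfl | rfl | rfl | rfl
      exacts [one_mem _, j1, j2, mul_mem j1 j2]⟩
  have ds : DS (S : Subgroup (𝒩(R0) ⧸ R0.subgroupOf 𝒩(R0))) := by
    rcases Cfsg.Agent.S3224.result S.isPGroup' sd (orderOf_eq_prime (by rw [pow_two]; exact F'.2.1) F'.2.2.2.2.1) c4
      with k | k | k
    · exact .inl k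
    · exact .inr k
    · have := (eq_top_of_card_eq _ (c4.trans k.symm) : cent(sd) = ⊤)
      exact absurd (cR a' (mS _ (mem_sup_left (mem_zpowers a))) (this ▸ mem_top _)) h.ta.nm
  have nK : (𝒞(R0).subgroupOf 𝒩(R0)).Normal :=
    (normal_subgroupOf_iff cn).2 fun _ _ hx hk => conj_mem (norm_le_norm_cent _ hk) hx
  have : ((𝒞(R0).subgroupOf 𝒩(R0)).map π).Normal := nK.map π πs
  have cj' : ∀ x y z : 𝒩(R0), x.1 * y.1 * x.1⁻¹ = z.1 → π x * π y * (π x)⁻¹ = π z := fun x y z e => by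
    rw [← map_inv, ← map_mul, ← map_mul]; exact congrArg π (Subtype.ext e)
  obtain ⟨_, ⟨g, hg, rfl⟩, ⟨r, k, hr, -, ho⟩, iso⟩ := lq _ S ((𝒞(R0).subgroupOf 𝒩(R0)).map π) (π c') (π d') (π (a' * b'))
    ds F ⟨c', cC, rfl⟩ ⟨d', dC, rfl⟩ ⟨a' * b', mul_mem aC bC, rfl⟩ (cj' _ _ _ (by
      change a * b * c * (a * b)⁻¹ = d
      rw [show a * b * c * (a * b)⁻¹ = a * (b * c * b⁻¹) * a⁻¹ by group, h.bc,
        show a * (c * d) * a⁻¹ = a * c * a⁻¹ * (a * d * a⁻¹) by group, ac, h.ad, ← ccd, ← mul_assoc, h.ta.cc, one_mul]))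
    (by
      rw [← map_mul π c']
      refine cj' _ _ _ ?_
      change a * b * d * (a * b)⁻¹ = c * d
      rw [show a * b * d * (a * b)⁻¹ = a * (b * d * b⁻¹) * a⁻¹ by group, bd, h.ad, ccd])
  obtain ⟨m, j, e1, e2⟩ := exists_lift π g hr ho
  have xC : (g ^ m).1 ∈ 𝒞(R0) := pow_mem (show g.1 ∈ 𝒞(R0) from hg) m
  obtain ⟨y, y1, y2, y3, y4⟩ := br3 G hP (g ^ m).1 R0 (prim_coe ⟨r, j, hr, e2⟩) p0 (fun ρ hρ => xC ρ hρ) (by
    refine Dvd.dvd.trans ?_ (card_subgroup_dvd_card 𝒩(R0))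
    rw [card_eq_card_quotient_mul_card_subgroup (R0.subgroupOf 𝒩(R0)),
      Nat.card_congr (subgroupOfEquivOfLe le_normalizer).toEquiv]
    exact Nat.mul_dvd_mul_right ((c4 ▸ card_subgroup_dvd_card _ : 4 ∣ Nat.card (S : Subgroup _)).trans
      (card_subgroup_dvd_card _)) _)
  refine y2 (π1 (g := ⟨y, y1⟩).1 (iso _ (by rw [← map_mul, π1]; exact y3) ?_))
  rw [← e1, ← map_mul, ← map_mul]
  exact congrArg π (Subtype.ext y4)

end CL.Sqf
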